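import Mathlib

/-!
# Gluing points along a Ferrand square

`C = P ×_E D` where `P → E` is surjective and `E = D[1/r]`, with `r` a unit in `P`. A `P`-point and a
`D`-point of a scheme agreeing on `E` come from a `C`-point.
-/

set_option autoImplicit false

open CategoryTheory AlgebraicGeometry

namespace Groth.Agent.PatchG0

universe u

variable {P D E : Type u} [CommRing P] [CommRing D] [CommRing E] [Algebra D E]

/-- the fibre product `P ×_E D` -/
def fibProd (p : P →+* E) : Subring (P × D) :=
  RingHom.eqLocus (p.comp (RingHom.fst P D)) ((algebraMap D E).comp (RingHom.snd P D))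

/-- first projection -/
def pr1 (p : P →+* E) : fibProd (D := D) p →+* P :=
  (RingHom.fst P D).comp (fibProd p).subtype

/-- second projection -/
def pr2 (p : P →+* E) : fibProd (D := D) p →+* D :=
  (RingHom.snd P D).comp (fibProd p).subtype

variable (p : P →+* E)

theorem pr_comm (c : fibProd (D := D) p) : p (pr1 p c) = algebraMap D E (pr2 p c) := c.2

theorem pr_ext {c d : fibProd (D := D) p} (h1 : pr1 p c = pr1 p d) (h2 : pr2 p c = pr2 p d) :
    c = d :=
  Subtype.ext (Prod.ext h1 h2)

/-- the pair of the two projections of a localisation -/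
noncomputable def locPair (h : fibProd (D := D) p) :
    Localization.Away h →+* Localization.Away (pr1 p h) × Localization.Away (pr2 p h) :=
  (Localization.awayMap (pr1 p) h).prod (Localization.awayMap (pr2 p) h)

theorem locPair_injective (h : fibProd (D := D) p) : Function.Injective (locPair p h) := by
  refine (injective_iff_map_eq_zero _).2 fun x hx => ?_
  obtain ⟨⟨c, s⟩, rfl⟩ := IsLocalization.mk'_surjective (Submonoid.powers h) x
  obtain ⟨n, hn⟩ := s.2
  have hc : algebraMap _ (Localization.Away h) c =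
      IsLocalization.mk' (Localization.Away h) c s * algebraMap _ _ (s : fibProd (D := D) p) :=
    (IsLocalization.mk'_spec' (Localization.Away h) c s).symm.trans (mul_comm _ _)
  have hc0 : locPair p h (algebraMap _ _ c) = 0 := by rw [hc, map_mul, hx, zero_mul]
  have h1 : algebraMap P (Localization.Away (pr1 p h)) (pr1 p c) = 0 := by
    have := congrArg Prod.fst hc0
    simpa [locPair, IsLocalization.Away.map, Localization.awayMap] using this
  have h2 : algebraMap D (Localization.Away (pr2 p h)) (pr2 p c) = 0 := by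
    have := congrArg Prod.snd hc0
    simpa [locPair, IsLocalization.Away.map, Localization.awayMap] using this
  obtain ⟨⟨_, k, rfl⟩, hk⟩ := (IsLocalization.map_eq_zero_iff (Submonoid.powers (pr1 p h)) _ _).1 h1
  obtain ⟨⟨_, l, rfl⟩, hl⟩ := (IsLocalization.map_eq_zero_iff (Submonoid.powers (pr2 p h)) _ _).1 h2
  rw [IsLocalization.mk'_eq_zero_iff]
  refine ⟨⟨h ^ (k + l), k + l, rfl⟩, pr_ext p ?_ ?_⟩
  · rw [map_mul, map_pow, map_zero, pow_add, mul_right_comm, show pr1 p h ^ k * pr1 p c = 0 from hk,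
      zero_mul]
  · rw [map_mul, map_pow, map_zero, pow_add, mul_assoc, show pr2 p h ^ l * pr2 p c = 0 from hl,
      mul_zero]

theorem locPair_algebraMap (h c : fibProd (D := D) p) :
    locPair p h (algebraMap _ _ c) = (algebraMap _ _ (pr1 p c), algebraMap _ _ (pr2 p c)) := by
  simp [locPair, IsLocalization.Away.map, Localization.awayMap]

/-- the map `D[1/h₂] → E[1/h₁]` -/
noncomputable def locQ (h : fibProd (D := D) p) :
    Localization.Away (pr2 p h) →+* Localization.Away (p (pr1 p h)) :=
  IsLocalization.Away.lift (pr2 p h)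
    (g := (algebraMap E (Localization.Away (p (pr1 p h)))).comp (algebraMap D E)) (by
      rw [RingHom.comp_apply, ← pr_comm]
      exact IsLocalization.Away.algebraMap_isUnit _)

theorem locQ_algebraMap (h : fibProd (D := D) p) (d : D) :
    locQ p h (algebraMap _ _ d) = algebraMap E _ (algebraMap D E d) :=
  IsLocalization.Away.lift_eq _ _ _

theorem mem_range_locPair (h : fibProd (D := D) p) (x : Localization.Away (pr1 p h))
    (y : Localization.Away (pr2 p h)) (hxy : Localization.awayMap p (pr1 p h) x = locQ p h y) :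
    (x, y) ∈ (locPair p h).range := by
  obtain ⟨n, a, ha⟩ := IsLocalization.Away.surj (pr1 p h) x
  obtain ⟨m, b, hb⟩ := IsLocalization.Away.surj (pr2 p h) y
  have ha' : x * algebraMap P _ (pr1 p h) ^ (n + m) =
      algebraMap P _ (a * pr1 p h ^ m) := by
    rw [pow_add, ← mul_assoc, ha, map_mul, map_pow]
  have hb' : y * algebraMap D _ (pr2 p h) ^ (n + m) =
      algebraMap D _ (b * pr2 p h ^ n) := by
    rw [add_comm, pow_add, ← mul_assoc, hb, map_mul, map_pow]
  have h1 := congrArg (Localization.awayMap p (pr1 p h)) ha'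
  have h2 := congrArg (locQ p h) hb'
  simp only [map_mul, map_pow, locQ_algebraMap, Localization.awayMap, IsLocalization.Away.map,
    IsLocalization.map_eq] at h1 h2 hxy
  rw [hxy] at h1
  rw [← pr_comm] at h2
  rw [h1] at h2
  simp only [← map_pow, ← map_mul] at h2
  obtain ⟨⟨_, k, rfl⟩, hk⟩ := (IsLocalization.eq_iff_exists (Submonoid.powers (p (pr1 p h))) _).1 h2
  have hc : p (pr1 p h ^ k * (a * pr1 p h ^ m)) =
      algebraMap D E (pr2 p h ^ k * (b * pr2 p h ^ n)) := by
    simp only [map_mul, map_pow, pr_comm] at hk ⊢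
    exact hk
  let c : fibProd (D := D) p := ⟨(pr1 p h ^ k * (a * pr1 p h ^ m), pr2 p h ^ k * (b * pr2 p h ^ n)), hc⟩
  have hu : IsUnit (algebraMap _ (Localization.Away h) h ^ (k + (n + m))) :=
    (IsLocalization.Away.algebraMap_isUnit h).pow _
  refine ⟨algebraMap _ _ c * ↑hu.unit⁻¹, ?_⟩
  refine (IsUnit.map (locPair p h) hu).mul_left_injective ?_
  beta_reduce
  rw [← map_mul, mul_assoc, hu.val_inv_mul, mul_one, map_pow, locPair_algebraMap,
    locPair_algebraMap]
  refine Prod.ext ?_ ?_
  · simp only [Prod.fst_mul, Prod.pow_fst]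
    show algebraMap P _ (pr1 p h ^ k * (a * pr1 p h ^ m)) = _
    rw [map_mul, map_pow, ← ha', pow_add (algebraMap P (Localization.Away (pr1 p h)) (pr1 p h)) k]
    ring
  · simp only [Prod.snd_mul, Prod.pow_snd]
    show algebraMap D _ (pr2 p h ^ k * (b * pr2 p h ^ n)) = _
    rw [map_mul, map_pow, ← hb', pow_add (algebraMap D (Localization.Away (pr2 p h)) (pr2 p h)) k]
    ring

theorem specMap_comm : Spec.map (CommRingCat.ofHom p) ≫ Spec.map (CommRingCat.ofHom (pr1 (D := D) p)) =
    Spec.map (CommRingCat.ofHom (algebraMap D E)) ≫ Spec.map (CommRingCat.ofHom (pr2 p)) := by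
  rw [← Spec.map_comp, ← Spec.map_comp]
  congr 1
  ext c
  exact pr_comm p c

variable {p} {G : Scheme.{u}} (g : Spec (CommRingCat.of P) ⟶ G) (e : Spec (CommRingCat.of D) ⟶ G)

variable (p) in
/-- `φ` on the open piece `j` restricts to `g` and to `e` -/
def Good {T : Scheme.{u}} (j : T ⟶ Spec (CommRingCat.of (fibProd (D := D) p))) (φ : T ⟶ G) : Prop :=
  (∀ (Q : Scheme.{u}) (a : Q ⟶ T) (b : Q ⟶ Spec (CommRingCat.of P)),
      a ≫ j = b ≫ Spec.map (CommRingCat.ofHom (pr1 p)) → a ≫ φ = b ≫ g) ∧
    ∀ (Q : Scheme.{u}) (a : Q ⟶ T) (b : Q ⟶ Spec (CommRingCat.of D)),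
      a ≫ j = b ≫ Spec.map (CommRingCat.ofHom (pr2 p)) → a ≫ φ = b ≫ e

theorem Good.precomp {T T' : Scheme.{u}} {j : T ⟶ Spec (CommRingCat.of (fibProd (D := D) p))}
    {φ : T ⟶ G} (h : Good p g e j φ) (t : T' ⟶ T) : Good p g e (t ≫ j) (t ≫ φ) :=
  ⟨fun Q a b hab => by rw [← Category.assoc]; exact h.1 Q _ b (by rwa [Category.assoc]),
    fun Q a b hab => by rw [← Category.assoc]; exact h.2 Q _ b (by rwa [Category.assoc])⟩

theorem exists_lift_D (r : D) [IsLocalization.Away r E] {Q : Scheme.{u}}
    (b : Q ⟶ Spec (CommRingCat.of D)) (hb : ∀ q : Q, r ∉ (b.base q).asIdeal) :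
    ∃ b' : Q ⟶ Spec (CommRingCat.of E), b' ≫ Spec.map (CommRingCat.ofHom (algebraMap D E)) = b := by
  haveI := IsOpenImmersion.of_isLocalization (S := E) r
  refine ⟨IsOpenImmersion.lift (Spec.map (CommRingCat.ofHom (algebraMap D E))) b ?_,
    IsOpenImmersion.lift_fac _ _ _⟩
  rintro x ⟨q, rfl⟩
  have : Set.range (Spec.map (CommRingCat.ofHom (algebraMap D E))) =
      (PrimeSpectrum.basicOpen r : Set (PrimeSpectrum D)) :=
    PrimeSpectrum.localization_away_comap_range E r
  rw [this]
  exact hb q

theorem exists_lift_away {R : Type u} [CommRing R] (r : R) {Q : Scheme.{u}}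
    (b : Q ⟶ Spec (CommRingCat.of R)) (hb : ∀ q : Q, r ∉ (b.base q).asIdeal) :
    ∃ b' : Q ⟶ Spec (CommRingCat.of (Localization.Away r)),
      b' ≫ Spec.map (CommRingCat.ofHom (algebraMap R (Localization.Away r))) = b :=
  exists_lift_D r b hb

section

variable (r : D) [IsLocalization.Away r E] (hp : Function.Surjective p) (rP : P) (hrP : IsUnit rP)
  (hr : p rP = algebraMap D E r)

/-- the element `(r, r)` -/
def rHat : fibProd (D := D) p := ⟨(rP, r), hr⟩

include hp in
theorem pr2_surjective : Function.Surjective (pr2 (D := D) p) := fun d => by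
  obtain ⟨x, hx⟩ := hp (algebraMap D E d)
  exact ⟨⟨(x, d), hx⟩, rfl⟩

include hrP in
theorem ker_pr2_le_span : RingHom.ker (pr2 (D := D) p) ≤ Ideal.span {rHat r rP hr} := fun c hc => by
  have hc2 : pr2 p c = 0 := hc
  have hc1 : p (pr1 p c) = 0 := by rw [pr_comm, hc2, map_zero]
  rw [Ideal.mem_span_singleton']
  refine ⟨⟨(pr1 p c * ↑hrP.unit⁻¹, 0), ?_⟩, pr_ext p ?_ ?_⟩
  · show p (pr1 p c * ↑hrP.unit⁻¹) = algebraMap D E 0
    rw [map_mul, hc1, zero_mul, map_zero]
  · rw [map_mul]
    show pr1 p c * ↑hrP.unit⁻¹ * rP = _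
    rw [mul_assoc, hrP.val_inv_mul, mul_one]
  · rw [map_mul, hc2]
    exact zero_mul _

include hrP in
theorem isLocalization_pr1 :
    letI := (pr1 (D := D) p).toAlgebra
    IsLocalization.Away (rHat r rP hr) P := by
  letI := (pr1 (D := D) p).toAlgebra
  refine IsLocalization.Away.mk _ hrP (fun x => ?_) fun a b hab => ?_
  · obtain ⟨n, d, hd⟩ := IsLocalization.Away.surj r (p x)
    refine ⟨n, ⟨(x * rP ^ n, d), ?_⟩, rfl⟩
    show p (x * rP ^ n) = algebraMap D E d
    rw [map_mul, map_pow, hr, hd]
  · have h2 : algebraMap D E (pr2 p a) = algebraMap D E (pr2 p b) := by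
      rw [← pr_comm, ← pr_comm]
      exact congrArg p hab
    obtain ⟨n, hn⟩ := IsLocalization.Away.exists_of_eq (S := E) r h2
    refine ⟨n, pr_ext p ?_ ?_⟩
    · rw [map_mul, map_mul]
      exact congrArg _ hab
    · rw [map_mul, map_mul, map_pow]
      exact hn

variable (hge : Spec.map (CommRingCat.ofHom p) ≫ g =
    Spec.map (CommRingCat.ofHom (algebraMap D E)) ≫ e)

include hge hrP r hr in
theorem good_pr1 : Good p g e (Spec.map (CommRingCat.ofHom (pr1 (D := D) p))) g := by
  letI := (pr1 (D := D) p).toAlgebra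
  haveI := isLocalization_pr1 r rP hrP hr
  haveI : IsOpenImmersion (Spec.map (CommRingCat.ofHom (pr1 (D := D) p))) :=
    IsOpenImmersion.of_isLocalization (S := P) (rHat r rP hr)
  refine ⟨fun Q a b hab => by rw [(cancel_mono _).1 hab], fun Q a b hab => ?_⟩
  obtain ⟨b', rfl⟩ := exists_lift_D (E := E) r b fun q hq => by
    have h := congrArg PrimeSpectrum.asIdeal (congrArg (fun f => f.base q) hab)
    have : pr1 (D := D) p (rHat r rP hr) ∈ (a.base q).asIdeal := by
      have hq' : rHat r rP hr ∈ ((b ≫ Spec.map (CommRingCat.ofHom (pr2 p))).base q).asIdeal := hq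
      rw [← h] at hq'
      exact hq'
    exact (a.base q).isPrime.ne_top (Ideal.eq_top_of_isUnit_mem _ this hrP)
  rw [Category.assoc, ← specMap_comm, ← Category.assoc] at hab
  rw [(cancel_mono _).1 hab, Category.assoc, Category.assoc, hge]

include hp hrP in
theorem mem_range_pr2 (x : PrimeSpectrum (fibProd (D := D) p)) (hx : rHat r rP hr ∈ x.asIdeal) :
    ∃ y : PrimeSpectrum D, PrimeSpectrum.comap (pr2 p) y = x := by
  have hk : RingHom.ker (pr2 (D := D) p) ≤ x.asIdeal :=
    (ker_pr2_le_span r rP hrP hr).trans (Ideal.span_le.2 (by simpa using hx))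
  have : x ∈ PrimeSpectrum.zeroLocus (RingHom.ker (pr2 (D := D) p) : Set _) := hk
  rw [← range_comap_of_surjective _ (pr2 (D := D) p) (pr2_surjective hp)] at this
  exact this

include hrP in
theorem mem_range_pr1 (x : PrimeSpectrum (fibProd (D := D) p)) (hx : rHat r rP hr ∉ x.asIdeal) :
    ∃ y : PrimeSpectrum P, PrimeSpectrum.comap (pr1 p) y = x := by
  letI := (pr1 (D := D) p).toAlgebra
  haveI := isLocalization_pr1 r rP hrP hr
  have : x ∈ Set.range (PrimeSpectrum.comap (algebraMap (fibProd (D := D) p) P)) := by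
    rw [PrimeSpectrum.localization_away_comap_range P (rHat r rP hr)]
    exact hx
  exact this

include hp hrP r hr in
theorem good_eq {T : Scheme.{u}} (j : T ⟶ Spec (CommRingCat.of (fibProd (D := D) p)))
    [IsOpenImmersion j] {φ ψ : T ⟶ G} (hφ : Good p g e j φ) (hψ : Good p g e j ψ) : φ = ψ := by
  have hpt : ∀ t : T, φ.base t = ψ.base t := fun t => by
    by_cases hx : rHat r rP hr ∈ (j.base t).asIdeal
    · obtain ⟨y, hy⟩ := mem_range_pr2 r hp rP hrP hr (j.base t) hx
      obtain ⟨z, hz, -⟩ := Scheme.Pullback.exists_preimage_pullback (f := j)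
        (g := Spec.map (CommRingCat.ofHom (pr2 (D := D) p))) t y hy.symm
      have hc := Limits.pullback.condition (f := j)
        (g := Spec.map (CommRingCat.ofHom (pr2 (D := D) p)))
      have := congrArg (fun f => f.base z) ((hφ.2 _ _ _ hc).trans (hψ.2 _ _ _ hc).symm)
      simpa [hz] using this
    · obtain ⟨y, hy⟩ := mem_range_pr1 r rP hrP hr (j.base t) hx
      obtain ⟨z, hz, -⟩ := Scheme.Pullback.exists_preimage_pullback (f := j)
        (g := Spec.map (CommRingCat.ofHom (pr1 (D := D) p))) t y hy.symm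
      have hc := Limits.pullback.condition (f := j)
        (g := Spec.map (CommRingCat.ofHom (pr1 (D := D) p)))
      have := congrArg (fun f => f.base z) ((hφ.1 _ _ _ hc).trans (hψ.1 _ _ _ hc).symm)
      simpa [hz] using this
  have loc : ∀ t : T, ∃ (c : fibProd (D := D) p)
      (s : Spec (CommRingCat.of (Localization.Away c)) ⟶ T),
      t ∈ Set.range s ∧ IsOpenImmersion s ∧ s ≫ φ = s ≫ ψ := fun t => by
    obtain ⟨W, hW, htW, -⟩ := exists_isAffineOpen_mem_and_subset (x := φ.base t) (U := ⊤) trivial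
    have hopen : IsOpen (j.base '' ((φ.base ⁻¹' (W : Set G)) ∩ (ψ.base ⁻¹' (W : Set G)))) :=
      j.isOpenEmbedding.isOpenMap _ (((φ ⁻¹ᵁ W).isOpen).inter ((ψ ⁻¹ᵁ W).isOpen))
    obtain ⟨_, ⟨c, rfl⟩, htc, hcU⟩ :=
      PrimeSpectrum.isTopologicalBasis_basic_opens.exists_subset_of_mem_open
        (Set.mem_image_of_mem j.base (show t ∈ φ.base ⁻¹' (W : Set G) ∩ ψ.base ⁻¹' (W : Set G) from
          ⟨htW, show ψ.base t ∈ W from hpt t ▸ htW⟩))
        hopen
    let i := Spec.map (CommRingCat.ofHom (algebraMap (fibProd (D := D) p) (Localization.Away c)))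
    haveI : IsOpenImmersion i := IsOpenImmersion.of_isLocalization c
    have hi : Set.range i = (PrimeSpectrum.basicOpen c : Set (PrimeSpectrum (fibProd (D := D) p))) :=
      PrimeSpectrum.localization_away_comap_range _ c
    let s := IsOpenImmersion.lift j i (hi.trans_subset (hcU.trans (Set.image_subset_range _ _)))
    have hs : s ≫ j = i := IsOpenImmersion.lift_fac _ _ _
    have hmem : ∀ z, s.base z ∈ (φ.base ⁻¹' (W : Set G)) ∩ (ψ.base ⁻¹' (W : Set G)) := fun z => by
      obtain ⟨w, hw, hwz⟩ := hcU (hi.subset ⟨z, rfl⟩)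
      have h1 : j.base w = j.base (s.base z) :=
        hwz.trans (congrArg (fun f => f.base z) hs).symm
      rwa [← j.isOpenEmbedding.injective h1]
    haveI : IsOpenImmersion s := by
      haveI : IsOpenImmersion (s ≫ j) := hs ▸ inferInstance
      exact IsOpenImmersion.of_comp s j
    refine ⟨c, s, ?_, inferInstance, ?_⟩
    · obtain ⟨z, hz⟩ := hi.superset htc
      refine ⟨z, j.isOpenEmbedding.injective ?_⟩
      rw [← hz]
      exact congrArg (fun f => f.base z) hs
    · have hgood1 := hφ.precomp g e s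
      have hgood2 := hψ.precomp g e s
      rw [hs] at hgood1 hgood2
      have r1 : Set.range (s ≫ φ) ⊆ Set.range hW.fromSpec := by
        rw [hW.range_fromSpec]; rintro _ ⟨z, rfl⟩; exact (hmem z).1
      have r2 : Set.range (s ≫ ψ) ⊆ Set.range hW.fromSpec := by
        rw [hW.range_fromSpec]; rintro _ ⟨z, rfl⟩; exact (hmem z).2
      obtain ⟨u₁, hu₁⟩ := Spec.map_surjective (IsOpenImmersion.lift hW.fromSpec (s ≫ φ) r1)
      obtain ⟨u₂, hu₂⟩ := Spec.map_surjective (IsOpenImmersion.lift hW.fromSpec (s ≫ ψ) r2)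
      have e₁ : Spec.map u₁ ≫ hW.fromSpec = s ≫ φ := by rw [hu₁, IsOpenImmersion.lift_fac]
      have e₂ : Spec.map u₂ ≫ hW.fromSpec = s ≫ ψ := by rw [hu₂, IsOpenImmersion.lift_fac]
      rw [← e₁, ← e₂]
      congr 2
      have k1 : u₁ ≫ CommRingCat.ofHom (Localization.awayMap (pr1 p) c) =
          u₂ ≫ CommRingCat.ofHom (Localization.awayMap (pr1 p) c) := by
        refine Spec.map_injective ((cancel_mono hW.fromSpec).1 ?_)
        rw [Spec.map_comp, Spec.map_comp, Category.assoc, Category.assoc, e₁, e₂]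
        have hc : Spec.map (CommRingCat.ofHom (Localization.awayMap (pr1 p) c)) ≫ i =
            Spec.map (CommRingCat.ofHom (algebraMap P (Localization.Away (pr1 p c)))) ≫
              Spec.map (CommRingCat.ofHom (pr1 p)) := by
          simp only [i, ← Spec.map_comp]
          congr 1
          ext x
          simp only [CommRingCat.hom_comp, CommRingCat.hom_ofHom, RingHom.comp_apply,
            Localization.awayMap, IsLocalization.Away.map]
          exact IsLocalization.map_eq _ _
        exact (hgood1.1 _ _ _ hc).trans (hgood2.1 _ _ _ hc).symm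
      have k2 : u₁ ≫ CommRingCat.ofHom (Localization.awayMap (pr2 p) c) =
          u₂ ≫ CommRingCat.ofHom (Localization.awayMap (pr2 p) c) := by
        refine Spec.map_injective ((cancel_mono hW.fromSpec).1 ?_)
        rw [Spec.map_comp, Spec.map_comp, Category.assoc, Category.assoc, e₁, e₂]
        have hc : Spec.map (CommRingCat.ofHom (Localization.awayMap (pr2 p) c)) ≫ i =
            Spec.map (CommRingCat.ofHom (algebraMap D (Localization.Away (pr2 p c)))) ≫
              Spec.map (CommRingCat.ofHom (pr2 p)) := by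
          simp only [i, ← Spec.map_comp]
          congr 1
          ext x
          simp only [CommRingCat.hom_comp, CommRingCat.hom_ofHom, RingHom.comp_apply,
            Localization.awayMap, IsLocalization.Away.map]
          exact IsLocalization.map_eq _ _
        exact (hgood1.2 _ _ _ hc).trans (hgood2.2 _ _ _ hc).symm
      ext x
      exact locPair_injective p c (Prod.ext (congrArg (fun f => f.hom x) k1)
        (congrArg (fun f => f.hom x) k2))
  choose c s hts hs hse using loc
  haveI := hs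
  let 𝒰 : T.OpenCover :=
    { I₀ := T
      X := fun t => Spec (CommRingCat.of (Localization.Away (c t)))
      f := s
      mem₀ := by
        rw [Scheme.presieve₀_mem_precoverage_iff]
        exact ⟨fun t => ⟨t, hts t⟩, hs⟩ }
  exact 𝒰.hom_ext _ _ hse

include hp hge in
theorem exists_good_away (y : PrimeSpectrum D) :
    ∃ h : fibProd (D := D) p, h ∉ (PrimeSpectrum.comap (pr2 p) y).asIdeal ∧
      ∃ φ, Good p g e (Spec.map (CommRingCat.ofHom
        (algebraMap (fibProd (D := D) p) (Localization.Away h)))) φ := by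
  obtain ⟨W, hW, hyW, -⟩ := exists_isAffineOpen_mem_and_subset (x := e.base y) (U := ⊤) trivial
  obtain ⟨_, ⟨a, rfl⟩, hya, haW⟩ :=
    PrimeSpectrum.isTopologicalBasis_basic_opens.exists_subset_of_mem_open
      (show y ∈ ((e ⁻¹ᵁ W).1 : Set (PrimeSpectrum D)) from hyW) (e ⁻¹ᵁ W).isOpen
  obtain ⟨s, hs⟩ := (PrimeSpectrum.isOpen_iff _).1 (g ⁻¹ᵁ W).isOpen
  have hrad : algebraMap D E a ∈ ((Ideal.span s).map p).radical := by
    rw [Ideal.radical_eq_sInf, Submodule.mem_sInf]
    rintro q ⟨hq, hqp⟩
    haveI := hqp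
    by_contra haq
    have h1 : e.base (PrimeSpectrum.comap (algebraMap D E) ⟨q, hqp⟩) ∈ W := haW haq
    have h2 : g.base (PrimeSpectrum.comap p ⟨q, hqp⟩) ∈ W := by
      have := congrArg (fun f => f.base (⟨q, hqp⟩ : PrimeSpectrum E)) hge
      exact (show g.base (PrimeSpectrum.comap p ⟨q, hqp⟩) =
        e.base (PrimeSpectrum.comap (algebraMap D E) ⟨q, hqp⟩) from this) ▸ h1
    have h3 : PrimeSpectrum.comap p ⟨q, hqp⟩ ∈ PrimeSpectrum.zeroLocus s :=
      fun x hx => hq (Ideal.mem_map_of_mem _ (Ideal.subset_span hx))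
    rw [← hs] at h3
    exact h3 h2
  obtain ⟨k, hk⟩ := hrad
  obtain ⟨j, hj, hjk⟩ := (Ideal.mem_map_iff_of_surjective p hp).1
    (Ideal.mul_mem_left _ (algebraMap D E a) hk)
  rw [← pow_succ'] at hjk
  let h : fibProd (D := D) p :=
    ⟨(j, a ^ (k + 1)), show p j = algebraMap D E (a ^ (k + 1)) by rw [hjk, map_pow]⟩
  refine ⟨h, fun hm => hya (y.isPrime.mem_of_pow_mem (k + 1) hm), ?_⟩
  let i1 := Spec.map (CommRingCat.ofHom (algebraMap P (Localization.Away (pr1 p h))))
  let i2 := Spec.map (CommRingCat.ofHom (algebraMap D (Localization.Away (pr2 p h))))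
  have r1 : Set.range (i1 ≫ g) ⊆ Set.range hW.fromSpec := by
    rw [hW.range_fromSpec]
    rintro _ ⟨z, rfl⟩
    by_contra hz
    have hz' : i1.base z ∈ PrimeSpectrum.zeroLocus s := hs.subset hz
    have hin : i1.base z ∈ PrimeSpectrum.zeroLocus (Ideal.span s : Set P) := by
      rwa [PrimeSpectrum.zeroLocus_span]
    have hnot : i1.base z ∈ (PrimeSpectrum.basicOpen j : Set (PrimeSpectrum P)) :=
      (PrimeSpectrum.localization_away_comap_range (Localization.Away (pr1 p h)) (pr1 p h)).subset
        ⟨z, rfl⟩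
    exact hnot (hin hj)
  have r2 : Set.range (i2 ≫ e) ⊆ Set.range hW.fromSpec := by
    rw [hW.range_fromSpec]
    rintro _ ⟨z, rfl⟩
    have hnot : i2.base z ∈ (PrimeSpectrum.basicOpen (a ^ (k + 1)) : Set (PrimeSpectrum D)) :=
      (PrimeSpectrum.localization_away_comap_range (Localization.Away (pr2 p h)) (pr2 p h)).subset
        ⟨z, rfl⟩
    refine haW fun hm => ?_
    exact hnot (Ideal.pow_mem_of_mem _ hm _ k.succ_pos)
  obtain ⟨u, hu⟩ := Spec.map_surjective (IsOpenImmersion.lift hW.fromSpec (i1 ≫ g) r1)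
  obtain ⟨v, hv⟩ := Spec.map_surjective (IsOpenImmersion.lift hW.fromSpec (i2 ≫ e) r2)
  have eu : Spec.map u ≫ hW.fromSpec = i1 ≫ g := by rw [hu, IsOpenImmersion.lift_fac]
  have ev : Spec.map v ≫ hW.fromSpec = i2 ≫ e := by rw [hv, IsOpenImmersion.lift_fac]
  have huv : u ≫ CommRingCat.ofHom (Localization.awayMap p (pr1 p h)) =
      v ≫ CommRingCat.ofHom (locQ p h) := by
    refine Spec.map_injective ((cancel_mono hW.fromSpec).1 ?_)
    rw [Spec.map_comp, Spec.map_comp, Category.assoc, Category.assoc, eu, ev]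
    simp only [i1, i2, ← Category.assoc, ← Spec.map_comp]
    have c1 : CommRingCat.ofHom (algebraMap P (Localization.Away (pr1 p h))) ≫
        CommRingCat.ofHom (Localization.awayMap p (pr1 p h)) =
        CommRingCat.ofHom p ≫ CommRingCat.ofHom (algebraMap E _) := by
      ext x
      simp only [CommRingCat.hom_comp, CommRingCat.hom_ofHom, RingHom.comp_apply,
        Localization.awayMap, IsLocalization.Away.map]
      exact IsLocalization.map_eq _ _
    have c2 : CommRingCat.ofHom (algebraMap D (Localization.Away (pr2 p h))) ≫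
        CommRingCat.ofHom (locQ p h) =
        CommRingCat.ofHom (algebraMap D E) ≫ CommRingCat.ofHom (algebraMap E _) := by
      ext x
      exact locQ_algebraMap p h x
    rw [c1, c2, Spec.map_comp, Spec.map_comp, Category.assoc, Category.assoc, hge]
  have hinj := locPair_injective p h
  let w := (RingEquiv.ofBijective (locPair p h).rangeRestrict
    ⟨fun a b hab => hinj (congrArg Subtype.val hab), (locPair p h).rangeRestrict_surjective⟩).symm
  let uv := (u.hom.prod v.hom).codRestrict (locPair p h).range fun x =>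
    mem_range_locPair p h _ _ (congrArg (fun f => f.hom x) huv)
  let φ := Spec.map (CommRingCat.ofHom (w.toRingHom.comp uv)) ≫ hW.fromSpec
  have hw : ∀ x, locPair p h (w (uv x)) = (u.hom x, v.hom x) := fun x =>
    congrArg Subtype.val (RingEquiv.apply_symm_apply (RingEquiv.ofBijective (locPair p h).rangeRestrict
      ⟨fun a b hab => hinj (congrArg Subtype.val hab), (locPair p h).rangeRestrict_surjective⟩) (uv x))
  haveI : IsOpenImmersion (Spec.map (CommRingCat.ofHom
      (algebraMap (fibProd (D := D) p) (Localization.Away h)))) :=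
    IsOpenImmersion.of_isLocalization h
  refine ⟨φ, ⟨fun Q a b hab => ?_, fun Q a b hab => ?_⟩⟩
  · obtain ⟨b', rfl⟩ := exists_lift_away (pr1 p h) b fun q hq => by
      have h' : h ∈ ((b ≫ Spec.map (CommRingCat.ofHom (pr1 p))).base q).asIdeal := hq
      rw [← hab] at h'
      exact (a.base q).isPrime.ne_top
        (Ideal.eq_top_of_isUnit_mem _ h' (IsLocalization.Away.algebraMap_isUnit h))
    have ha : a = b' ≫ Spec.map (CommRingCat.ofHom (Localization.awayMap (pr1 p) h)) := by
      refine (cancel_mono (Spec.map (CommRingCat.ofHom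
        (algebraMap (fibProd (D := D) p) (Localization.Away h))))).1 ?_
      rw [hab, Category.assoc, Category.assoc, ← Spec.map_comp, ← Spec.map_comp]
      congr 2
      ext x
      simp only [CommRingCat.hom_comp, CommRingCat.hom_ofHom, RingHom.comp_apply,
        Localization.awayMap, IsLocalization.Away.map]
      exact (IsLocalization.map_eq _ _).symm
    rw [ha, Category.assoc, Category.assoc]
    congr 1
    simp only [φ]
    rw [← Category.assoc, ← Spec.map_comp, ← eu]
    congr 2
    ext x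
    exact congrArg Prod.fst (hw x)
  · obtain ⟨b', rfl⟩ := exists_lift_away (pr2 p h) b fun q hq => by
      have h' : h ∈ ((b ≫ Spec.map (CommRingCat.ofHom (pr2 p))).base q).asIdeal := hq
      rw [← hab] at h'
      exact (a.base q).isPrime.ne_top
        (Ideal.eq_top_of_isUnit_mem _ h' (IsLocalization.Away.algebraMap_isUnit h))
    have ha : a = b' ≫ Spec.map (CommRingCat.ofHom (Localization.awayMap (pr2 p) h)) := by
      refine (cancel_mono (Spec.map (CommRingCat.ofHom
        (algebraMap (fibProd (D := D) p) (Localization.Away h))))).1 ?_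
      rw [hab, Category.assoc, Category.assoc, ← Spec.map_comp, ← Spec.map_comp]
      congr 2
      ext x
      simp only [CommRingCat.hom_comp, CommRingCat.hom_ofHom, RingHom.comp_apply,
        Localization.awayMap, IsLocalization.Away.map]
      exact (IsLocalization.map_eq _ _).symm
    rw [ha, Category.assoc, Category.assoc]
    congr 1
    simp only [φ]
    rw [← Category.assoc, ← Spec.map_comp, ← ev]
    congr 2
    ext x
    exact congrArg Prod.snd (hw x)

include r hp rP hrP hr hge in
/-- a `P`-point and a `D`-point agreeing on `E` come from a point of the fibre product -/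
theorem exists_glue : ∃ φ : Spec (CommRingCat.of (fibProd (D := D) p)) ⟶ G,
    Spec.map (CommRingCat.ofHom (pr1 p)) ≫ φ = g ∧ Spec.map (CommRingCat.ofHom (pr2 p)) ≫ φ = e := by
  let ι := {c : fibProd (D := D) p // ∃ φ, Good p g e (Spec.map (CommRingCat.ofHom
    (algebraMap (fibProd (D := D) p) (Localization.Away c)))) φ}
  have hr0 : ∃ φ, Good p g e (Spec.map (CommRingCat.ofHom
      (algebraMap (fibProd (D := D) p) (Localization.Away (rHat r rP hr))))) φ := by
    letI := (pr1 (D := D) p).toAlgebra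
    haveI := isLocalization_pr1 r rP hrP hr
    let ε := IsLocalization.algEquiv (Submonoid.powers (rHat r rP hr)) P
      (Localization.Away (rHat r rP hr))
    refine ⟨Spec.map (CommRingCat.ofHom ε.toAlgHom.toRingHom) ≫ g, ?_⟩
    have := (good_pr1 g e r rP hrP hr hge).precomp g e
      (Spec.map (CommRingCat.ofHom ε.toAlgHom.toRingHom))
    convert this using 1
    rw [← Spec.map_comp]
    congr 1
    ext x
    exact (ε.commutes x).symm
  have htop : Ideal.span (Set.range fun c : ι => c.1) = ⊤ := by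
    rw [← PrimeSpectrum.iSup_basicOpen_eq_top_iff]
    rw [eq_top_iff]
    intro x _
    rw [TopologicalSpace.Opens.mem_iSup]
    by_cases hx : rHat r rP hr ∈ x.asIdeal
    · obtain ⟨y, rfl⟩ := mem_range_pr2 r hp rP hrP hr x hx
      obtain ⟨h, hh, hh'⟩ := exists_good_away g e hp hge y
      exact ⟨⟨h, hh'⟩, hh⟩
    · exact ⟨⟨_, hr0⟩, hx⟩
  let 𝒰 := (Scheme.affineOpenCoverOfSpanRangeEqTop (R := CommRingCat.of (fibProd (D := D) p))
    (fun c : ι => c.1) htop).openCover
  choose φ hφ using fun c : ι => c.2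
  have hcompat : ∀ a b : ι, Limits.pullback.fst (𝒰.f a) (𝒰.f b) ≫ φ a =
      Limits.pullback.snd (𝒰.f a) (𝒰.f b) ≫ φ b := fun a b => by
    have h1 : Good p g e (Limits.pullback.fst (𝒰.f a) (𝒰.f b) ≫ 𝒰.f a) _ :=
      (hφ a).precomp g e (Limits.pullback.fst (𝒰.f a) (𝒰.f b))
    have h2 : Good p g e (Limits.pullback.snd (𝒰.f a) (𝒰.f b) ≫ 𝒰.f b) _ :=
      (hφ b).precomp g e (Limits.pullback.snd (𝒰.f a) (𝒰.f b))
    rw [← Limits.pullback.condition] at h2
    exact good_eq g e r hp rP hrP hr _ h1 h2
  let Φ := 𝒰.glueMorphisms φ hcompat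
  refine ⟨Φ, ?_, ?_⟩
  · refine Scheme.Cover.hom_ext (𝒰.pullback₁ (Spec.map (CommRingCat.ofHom (pr1 p)))) _ _ fun c => ?_
    show Limits.pullback.fst _ (𝒰.f c) ≫ _ ≫ Φ = _
    rw [← Category.assoc, Limits.pullback.condition, Category.assoc, 𝒰.ι_glueMorphisms]
    exact (hφ c).1 _ _ _ Limits.pullback.condition.symm
  · refine Scheme.Cover.hom_ext (𝒰.pullback₁ (Spec.map (CommRingCat.ofHom (pr2 p)))) _ _ fun c => ?_
    show Limits.pullback.fst _ (𝒰.f c) ≫ _ ≫ Φ = _
    rw [← Category.assoc, Limits.pullback.condition, Category.assoc, 𝒰.ι_glueMorphisms]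
    exact (hφ c).2 _ _ _ Limits.pullback.condition.symm

end

end Groth.Agent.PatchG0
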