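import Mathlib
import Groth.Agent.PatchG0.Glue

/-!
# Extending points from `D[1/r][X]` to `D[X]` after scaling the variable
-/

set_option autoImplicit false

open CategoryTheory CategoryTheory.Limits AlgebraicGeometry Polynomial

namespace Groth.Agent.PatchG0

universe u

variable {D E : Type u} [CommRing D] [CommRing E] [Algebra D E]

/-- `X ↦ a X` -/
noncomputable def scaleHom {R : Type u} [CommRing R] (a : R) : R[X] →+* R[X] :=
  eval₂RingHom C (C a * X)

theorem coeff_scaleHom {R : Type u} [CommRing R] (a : R) (P : R[X]) (i : ℕ) :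
    (scaleHom a P).coeff i = a ^ i * P.coeff i := by
  induction P using Polynomial.induction_on' with
  | add P Q hP hQ => rw [map_add, coeff_add, hP, hQ, coeff_add, mul_add]
  | monomial n c =>
    simp only [scaleHom, coe_eval₂RingHom, eval₂_monomial, mul_pow, ← C_pow, ← mul_assoc, ← C_mul,
      coeff_C_mul, coeff_X_pow, coeff_monomial]
    rcases eq_or_ne i n with h | h
    · subst h; simp [mul_comm]
    · simp [h, Ne.symm h]

theorem scaleHom_comp {R : Type u} [CommRing R] (a b : R) :
    (scaleHom a).comp (scaleHom b) = scaleHom (a * b) := by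
  refine RingHom.ext fun P => Polynomial.ext fun i => ?_
  simp [coeff_scaleHom, mul_pow, mul_assoc]

theorem scaleHom_one {R : Type u} [CommRing R] : scaleHom (1 : R) = RingHom.id R[X] := by
  ext <;> simp [scaleHom]

variable (r : D) [IsLocalization.Away r E]

variable (E) in
/-- `X ↦ X / r ^ n` -/
noncomputable def unscale (n : ℕ) : D[X] →+* E[X] :=
  (scaleHom (IsLocalization.Away.invSelf r ^ n)).comp (mapRingHom (algebraMap D E))

theorem coeff_unscale (n : ℕ) (P : D[X]) (i : ℕ) :
    (unscale E r n P).coeff i =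
      (IsLocalization.Away.invSelf r ^ n) ^ i * algebraMap D E (P.coeff i) := by
  simp [unscale, coeff_scaleHom]

theorem scale_comp_unscale (n : ℕ) :
    (scaleHom (algebraMap D E r ^ n)).comp (unscale E r n) = mapRingHom (algebraMap D E) := by
  rw [unscale, ← RingHom.comp_assoc, scaleHom_comp, ← mul_pow, IsLocalization.Away.mul_invSelf,
    one_pow, scaleHom_one, RingHom.id_comp]

theorem unscale_comp_scale (n k : ℕ) :
    (unscale E r (n + k)).comp (scaleHom (r ^ k)) = unscale E r n := by
  refine RingHom.ext fun P => Polynomial.ext fun i => ?_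
  have h := congrArg (· ^ i) (congrArg (· ^ k) (IsLocalization.Away.mul_invSelf (S := E) r))
  simp only [mul_pow, one_pow] at h
  simp only [RingHom.comp_apply, coeff_unscale, coeff_scaleHom, map_mul, map_pow, pow_add, mul_pow]
  linear_combination (IsLocalization.Away.invSelf r ^ n : E) ^ i * algebraMap D E (P.coeff i) * h

variable (E) in
/-- `P(X) ↦ (P(X / r ^ n), P(0))` -/
noncomputable def stage (n : ℕ) : D[X] →+* fibProd (D := D) (evalRingHom (0 : E)) :=
  ((unscale E r n).prod (evalRingHom (0 : D))).codRestrict _ fun P => by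
    show (evalRingHom (0 : E)) (unscale E r n P) = algebraMap D E (P.eval 0)
    simp [← coeff_zero_eq_eval_zero, coeff_unscale]

theorem stage_comp_scale (n k : ℕ) :
    (stage E r (n + k)).comp (scaleHom (r ^ k)) = stage E r n := by
  refine RingHom.ext fun P => pr_ext _ (congrArg (fun f : D[X] →+* E[X] => f P)
    (unscale_comp_scale (E := E) r n k)) ?_
  show (scaleHom (r ^ k) P).eval 0 = P.eval 0
  simp [← coeff_zero_eq_eval_zero, coeff_scaleHom]

theorem stage_surjective (x : fibProd (D := D) (evalRingHom (0 : E))) :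
    ∃ n P, stage E r n P = x := by
  obtain ⟨⟨p, d⟩, hx⟩ := x
  have hx' : p.coeff 0 = algebraMap D E d := by
    rw [coeff_zero_eq_eval_zero]; exact hx
  suffices H : ∀ q : E[X], q.coeff 0 = 0 →
      ∃ n P, unscale E r n P = q ∧ P.coeff 0 = 0 by
    obtain ⟨n, P, hP, hP0⟩ := H (p - C (algebraMap D E d)) (by simp [hx'])
    refine ⟨n, P + C d, pr_ext _ ?_ ?_⟩
    · show unscale E r n (P + C d) = p
      rw [map_add, hP]
      simp [unscale, scaleHom]
    · show (P + C d).eval 0 = d
      simp [← coeff_zero_eq_eval_zero, hP0]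
  intro q hq
  suffices H : ∀ s : Finset ℕ, ∃ n P, P.coeff 0 = 0 ∧
      unscale E r n P = ∑ i ∈ s, monomial i (q.coeff i) by
    obtain ⟨n, P, h0, hP⟩ := H q.support
    exact ⟨n, P, hP.trans q.as_sum_support.symm, h0⟩
  intro s
  classical
  induction s using Finset.induction_on with
  | empty => exact ⟨0, 0, by simp, by simp⟩
  | @insert i s hi ih =>
    obtain ⟨n, P, h0, hP⟩ := ih
    rcases Nat.eq_zero_or_pos i with rfl | hipos
    · exact ⟨n, P, h0, by rw [hP, Finset.sum_insert hi, hq, monomial_zero_right, zero_add]⟩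
    · obtain ⟨m, a, ha⟩ := IsLocalization.Away.surj r (q.coeff i)
      refine ⟨n + m, scaleHom (r ^ m) P + monomial i (r ^ (n * i + m * (i - 1)) * a), ?_, ?_⟩
      · simp [coeff_scaleHom, h0, coeff_monomial, hipos.ne']
      · rw [map_add, ← RingHom.comp_apply, unscale_comp_scale, hP, Finset.sum_insert hi, add_comm]
        congr 1
        refine Polynomial.ext fun j => ?_
        rw [coeff_unscale, coeff_monomial, coeff_monomial]
        split_ifs with hj
        · subst hj
          rw [map_mul, map_pow, ← ha]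
          have h := congrArg (· ^ (n * i + m * i)) (IsLocalization.Away.mul_invSelf (S := E) r)
          simp only [mul_pow, one_pow] at h
          have e1 : (n + m) * i = n * i + m * i := add_mul n m i
          have e2 : n * i + m * (i - 1) + m = n * i + m * i := by
            obtain ⟨i, rfl⟩ := Nat.exists_eq_add_of_le hipos
            simp only [Nat.succ_eq_add_one, zero_add, Nat.add_sub_cancel_left, mul_add, mul_one]
            ring
          rw [← pow_mul, e1, show algebraMap D E r ^ (n * i + m * (i - 1)) *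
              (q.coeff i * algebraMap D E r ^ m) = q.coeff i * algebraMap D E r ^ (n * i + m * i) by
            rw [← e2]; ring]
          linear_combination q.coeff i * h
        · simp

theorem stage_eq_imp (n : ℕ) (P Q : D[X]) (h : stage E r n P = stage E r n Q) :
    ∃ k, scaleHom (r ^ k) P = scaleHom (r ^ k) Q := by
  have h0 : P.coeff 0 = Q.coeff 0 := by
    simp only [coeff_zero_eq_eval_zero]
    exact congrArg (pr2 (evalRingHom (0 : E))) h
  have hi : ∀ i, ∃ k, r ^ k * P.coeff i = r ^ k * Q.coeff i := fun i => by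
    have h1 : (unscale E r n P).coeff i = (unscale E r n Q).coeff i :=
      congrArg (fun z => (pr1 (evalRingHom (0 : E)) z).coeff i) h
    rw [coeff_unscale, coeff_unscale] at h1
    have hu : IsUnit ((IsLocalization.Away.invSelf r ^ n : E) ^ i) :=
      ((isUnit_iff_exists_inv'.2 ⟨_, IsLocalization.Away.mul_invSelf (S := E) r⟩).pow n).pow i
    exact IsLocalization.Away.exists_of_eq (S := E) r (hu.mul_left_cancel h1)
  choose k hk using hi
  let K := (P.support ∪ Q.support).sup k
  refine ⟨K, Polynomial.ext fun i => ?_⟩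
  rw [coeff_scaleHom, coeff_scaleHom]
  rcases Nat.eq_zero_or_pos i with rfl | hipos
  · rw [h0]
  · by_cases his : i ∈ P.support ∪ Q.support
    · obtain ⟨c, hc⟩ := Nat.exists_eq_add_of_le
        ((Finset.le_sup his).trans (Nat.le_mul_of_pos_right K hipos))
      rw [← pow_mul, show K * i = c + k i by rw [hc, add_comm], pow_add, mul_assoc, mul_assoc, hk i]
    · simp only [Finset.mem_union, mem_support_iff, not_or, not_not] at his
      rw [his.1, his.2]

/-- the inductive system `D[X] → D[X] → ⋯`, `X ↦ r X` -/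
noncomputable def scaleSystem : ULift.{u} ℕ ⥤ CommRingCat.{u} where
  obj _ := CommRingCat.of D[X]
  map {m n} _ := CommRingCat.ofHom (scaleHom (r ^ (n.down - m.down)))
  map_id n := by rw [Nat.sub_self, pow_zero, scaleHom_one]; rfl
  map_comp {a b c} f g := by
    rw [← CommRingCat.ofHom_comp, scaleHom_comp, ← pow_add]
    congr 3
    have h1 : a.down ≤ b.down := (leOfHom f : a ≤ b)
    have h2 : b.down ≤ c.down := (leOfHom g : b ≤ c)
    omega

variable (E) in
/-- the cocone with vertex `E[X] ×_E D` -/
noncomputable def scaleCocone : Cocone (scaleSystem r) where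
  pt := CommRingCat.of (fibProd (D := D) (evalRingHom (0 : E)))
  ι :=
    { app := fun n => CommRingCat.ofHom (stage E r n.down)
      naturality := fun ⟨m⟩ ⟨n⟩ f => by
        obtain ⟨k, rfl⟩ := Nat.exists_eq_add_of_le (show m ≤ n from (leOfHom f : (⟨m⟩ : ULift.{u} ℕ) ≤ ⟨n⟩))
        show CommRingCat.ofHom (scaleHom (r ^ (m + k - m))) ≫ _ = _ ≫ 𝟙 _
        rw [Category.comp_id, Nat.add_sub_cancel_left, ← CommRingCat.ofHom_comp, stage_comp_scale] }

variable (E) in
/-- `E[X] ×_E D` is the colimit -/
noncomputable def isColimitScaleCocone : IsColimit (scaleCocone E r) := by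
  haveI : ReflectsFilteredColimits (forget CommRingCat.{u}) :=
    ⟨fun _ => reflectsColimitsOfShape_of_reflectsIsomorphisms⟩
  haveI : ReflectsColimitsOfShape (ULift.{u} ℕ) (forget CommRingCat.{u}) :=
    reflectsColimitsOfShape_of_reflectsIsomorphisms
  refine isColimitOfReflects (forget CommRingCat.{u}) (Types.FilteredColimit.isColimitOf' _ _ ?_ ?_)
  · intro x
    obtain ⟨n, P, hP⟩ := stage_surjective (E := E) r x
    exact ⟨⟨n⟩, P, hP.symm⟩
  · rintro ⟨n⟩ P Q h
    obtain ⟨k, hk⟩ := stage_eq_imp (E := E) r n P Q h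
    refine ⟨⟨n + k⟩, homOfLE (show n ≤ n + k from Nat.le_add_right n k), ?_⟩
    show scaleHom (r ^ (n + k - n)) P = scaleHom (r ^ (n + k - n)) Q
    rw [Nat.add_sub_cancel_left, hk]

theorem specMap_fac {A B C : Type u} [CommRing A] [CommRing B] [CommRing C] (a : A →+* B)
    (b : B →+* C) (c : A →+* C) (h : b.comp a = c) {Z : Scheme.{u}}
    (z : Spec (CommRingCat.of A) ⟶ Z) :
    Spec.map (CommRingCat.ofHom b) ≫ Spec.map (CommRingCat.ofHom a) ≫ z =
      Spec.map (CommRingCat.ofHom c) ≫ z := by
  rw [← h, CommRingCat.ofHom_comp, Spec.map_comp, Category.assoc]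

theorem eq_of_pr {S : CommRingCat.{u}} (p : E[X] →+* E)
    (a b : Spec (CommRingCat.of (fibProd (D := D) p)) ⟶ Spec S)
    (h1 : Spec.map (CommRingCat.ofHom (pr1 p)) ≫ a = Spec.map (CommRingCat.ofHom (pr1 p)) ≫ b)
    (h2 : Spec.map (CommRingCat.ofHom (pr2 p)) ≫ a = Spec.map (CommRingCat.ofHom (pr2 p)) ≫ b) :
    a = b := by
  obtain ⟨u, rfl⟩ := Spec.map_surjective a
  obtain ⟨v, rfl⟩ := Spec.map_surjective b
  rw [← Spec.map_comp, ← Spec.map_comp] at h1 h2
  congr 1
  ext1
  refine RingHom.ext fun x => ?_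
  exact pr_ext p (congrArg (fun f => f.hom x) (Spec.map_injective h1))
    (congrArg (fun f => f.hom x) (Spec.map_injective h2))

/-- A point over `E[X]` whose value at `0` extends to `D` extends to `D[X]` after `X ↦ r ^ n X`. -/
theorem exists_lift {G : Scheme.{u}} {S : CommRingCat.{u}} (f : G ⟶ Spec S) [LocallyOfFinitePresentation f]
    (σ : Spec (CommRingCat.of D) ⟶ Spec S) (g : Spec (CommRingCat.of E[X]) ⟶ G)
    (hgf : g ≫ f =
      Spec.map (CommRingCat.ofHom ((C : E →+* E[X]).comp (algebraMap D E))) ≫ σ)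
    (e : Spec (CommRingCat.of D) ⟶ G) (hef : e ≫ f = σ)
    (hge : Spec.map (CommRingCat.ofHom (evalRingHom (0 : E))) ≫ g =
      Spec.map (CommRingCat.ofHom (algebraMap D E)) ≫ e) :
    ∃ (n : ℕ) (g' : Spec (CommRingCat.of D[X]) ⟶ G),
      g' ≫ f = Spec.map (CommRingCat.ofHom (C : D →+* D[X])) ≫ σ ∧
      Spec.map (CommRingCat.ofHom (mapRingHom (algebraMap D E))) ≫ g' =
        Spec.map (CommRingCat.ofHom (scaleHom (algebraMap D E r ^ n))) ≫ g := by
  have hp : Function.Surjective (evalRingHom (0 : E)) := fun x => ⟨C x, eval_C⟩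
  obtain ⟨φ, hφ1, hφ2⟩ := exists_glue g e r hp (C (algebraMap D E r))
    (isUnit_C.2 (IsLocalization.Away.algebraMap_isUnit r)) eval_C hge
  let T : (ULift.{u} ℕ)ᵒᵖ ⥤ Scheme.{u} := (scaleSystem r).op ⋙ Scheme.Spec
  let c : Cone T := Scheme.Spec.mapCone (scaleCocone E r).op
  have hc : IsLimit c := isLimitOfPreserves Scheme.Spec (isColimitScaleCocone E r).op
  let t : T ⟶ (Functor.const _).obj (Spec S) :=
    { app := fun n => Spec.map (CommRingCat.ofHom (C : D →+* D[X])) ≫ σ
      naturality := fun m n h => by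
        show Spec.map (CommRingCat.ofHom (scaleHom (r ^ _))) ≫ _ = _ ≫ 𝟙 (Spec S)
        rw [Category.comp_id]
        refine specMap_fac _ _ _ ?_ σ
        ext x
        simp [scaleHom] }
  haveI : ∀ {i j} (h : i ⟶ j), IsAffineHom (T.map h) := fun h => by
    show IsAffineHom (Spec.map _); infer_instance
  haveI : ∀ i, CompactSpace (T.obj i) := fun i =>
    inferInstanceAs (CompactSpace (Spec (CommRingCat.of D[X])))
  haveI : ∀ i, QuasiSeparatedSpace (T.obj i) := fun i =>
    inferInstanceAs (QuasiSeparatedSpace (Spec (CommRingCat.of D[X])))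
  have hφf : φ ≫ f = Spec.map (CommRingCat.ofHom ((stage E r 0).comp C)) ≫ σ := by
    let 𝒬 := Spec.map (CommRingCat.ofHom (pr1 (D := D) (evalRingHom (0 : E))))
    have h12 : ∀ {A : Type u} [CommRing A] (π : fibProd (D := D) (evalRingHom (0 : E)) →+* A)
        (z : Spec (CommRingCat.of A) ⟶ G) (v : D →+* A), π.comp ((stage E r 0).comp C) = v →
        Spec.map (CommRingCat.ofHom π) ≫ φ = z → z ≫ f = Spec.map (CommRingCat.ofHom v) ≫ σ →
        Spec.map (CommRingCat.ofHom π) ≫ φ ≫ f =
          Spec.map (CommRingCat.ofHom π) ≫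
            Spec.map (CommRingCat.ofHom ((stage E r 0).comp C)) ≫ σ := by
      intro A _ π z v hv hz hzf
      rw [← Category.assoc, hz, hzf, ← hv, ← Category.assoc, ← Spec.map_comp,
        ← CommRingCat.ofHom_comp]
    have k1 := h12 (pr1 (evalRingHom (0 : E))) g ((C : E →+* E[X]).comp (algebraMap D E)) (by
      refine RingHom.ext fun x => ?_
      show unscale E r 0 (C x) = C (algebraMap D E x)
      simp [unscale, scaleHom]) hφ1 hgf
    have k2 := h12 (pr2 (evalRingHom (0 : E))) e (RingHom.id D) (by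
      refine RingHom.ext fun x => ?_
      show (C x).eval 0 = x
      simp) hφ2 (by rw [hef]; simp)
    exact eq_of_pr _ _ _ k1 k2
  obtain ⟨n, g', hg', hg'f⟩ := Scheme.exists_π_app_comp_eq_of_locallyOfFinitePresentation T t f c hc φ
    (by
      ext n
      show Spec.map (CommRingCat.ofHom (stage E r n.unop.down)) ≫ _ ≫ σ = φ ≫ f
      rw [hφf]
      refine specMap_fac _ _ _ ?_ σ
      refine RingHom.ext fun x => pr_ext _ ?_ ?_
      · show unscale E r n.unop.down (C x) = unscale E r 0 (C x)
        simp [unscale, scaleHom]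
      · rfl)
  refine ⟨n.unop.down, g', hg'f, ?_⟩
  rw [← hφ1, ← hg']
  refine Eq.trans ?_ (congrArg (Spec.map (CommRingCat.ofHom (scaleHom (algebraMap D E r ^ n.unop.down))) ≫ ·)
    (specMap_fac (stage E r n.unop.down) (pr1 (evalRingHom (0 : E))) (unscale E r n.unop.down) rfl g').symm)
  exact (specMap_fac _ _ _ (scale_comp_unscale (E := E) r n.unop.down) g').symm

end Groth.Agent.PatchG0
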